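import Groth.Prelude.Def_Curv2
import Mathlib.RingTheory.LocalRing.Length
import Mathlib.RingTheory.DedekindDomain.PID
import Mathlib.RingTheory.DedekindDomain.Ideal.Lemmas
import Mathlib.FieldTheory.IsAlgClosed.Basic
import Mathlib.LinearAlgebra.Dual.Lemmas
import Mathlib.Algebra.BigOperators.WithTop

/-! Conductor and δ-invariant of a one-dimensional local domain: `δ + 1 ≤ n ≤ 2δ`. -/

set_option autoImplicit false
set_option linter.style.haveILetI false
universe u

namespace Groth.Agent.CondDelta92

/-- A functional nonzero on finitely many given nonzero vectors. -/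
theorem exists_dual_ne {k V : Type*} [Field k] [Infinite k] [AddCommGroup V] [Module k V]
    (s : Finset V) (hs : ∀ v ∈ s, v ≠ 0) : ∃ φ : Module.Dual k V, ∀ v ∈ s, φ v ≠ 0 := by
  classical
  induction s using Finset.induction_on with
  | empty => exact ⟨0, by simp⟩
  | @insert a s ha ih =>
    obtain ⟨φ, hφ⟩ := ih fun v hv => hs v (Finset.mem_insert_of_mem hv)
    obtain ⟨ψ, hψ⟩ : ∃ ψ : Module.Dual k V, ψ a ≠ 0 := by
      by_contra! h
      exact hs a (Finset.mem_insert_self a s) ((Module.forall_dual_apply_eq_zero_iff k a).1 h)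
    obtain ⟨t, ht⟩ := Infinite.exists_notMem_finset ((insert a s).image fun v => -(φ v / ψ v))
    refine ⟨φ + t • ψ, fun v hv h => ?_⟩
    rw [LinearMap.add_apply, LinearMap.smul_apply, smul_eq_mul] at h
    by_cases hv0 : ψ v = 0
    · rw [hv0, mul_zero, add_zero] at h
      rcases Finset.mem_insert.1 hv with rfl | hv'
      · exact hψ hv0
      · exact hφ v hv' h
    · exact ht (Finset.mem_image.2 ⟨v, hv, by field_simp; linear_combination -h⟩)

/-- Lengths over a local algebra with residue field `k` are dimensions over `k`. -/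
theorem length_eq (k : Type u) [Field k] {A : Type u} [CommRing A] [IsLocalRing A] [Algebra k A]
    (hres : Function.Surjective (algebraMap k (IsLocalRing.ResidueField A)))
    (M : Type u) [AddCommGroup M] [Module k M] [Module A M] [IsScalarTower k A M] :
    Module.length k M = Module.length A M := by
  haveI : IsLocalHom (algebraMap k A) := ⟨fun a ha => by
    rcases eq_or_ne a 0 with rfl | h
    · rw [map_zero] at ha; exact absurd ha not_isUnit_zero
    · exact isUnit_iff_ne_zero.2 h⟩
  have h1 : Module.length (IsLocalRing.ResidueField k) (IsLocalRing.ResidueField A) = 1 := by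
    have hs : Function.Surjective
        (algebraMap (IsLocalRing.ResidueField k) (IsLocalRing.ResidueField A)) := fun z => by
      obtain ⟨c, hc⟩ := hres z
      exact ⟨IsLocalRing.residue k c, by rw [← hc]; rfl⟩
    rw [Module.length_eq_of_surjective (R := IsLocalRing.ResidueField A) hs]
    exact Module.length_eq_one _ _
  rw [IsLocalRing.length_restrictScalars k A M, h1, mul_one]

variable (k : Type u) [Field k] [IsAlgClosed k] {A : Type u} [CommRing A] [IsDomain A] [IsNoetherianRing A]
  [IsLocalRing A] [Algebra k A]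

/-- The conductor bounds. -/
theorem bounds (hres : Function.Surjective (algebraMap k (IsLocalRing.ResidueField A)))
    [Ring.DimensionLEOne A] (hA : ¬ IsField A) [Module.Finite A (integralClosure A (FractionRing A))]
    (hδ : Curv2.deltaInv A < ⊤) (hsing : ¬ IsIntegrallyClosed A) :
    let B := integralClosure A (FractionRing A)
    let c := Module.annihilator A (B ⧸ LinearMap.range (Algebra.linearMap A B))
    Curv2.deltaInv A + 1 ≤ Module.length A (B ⧸ c • (⊤ : Submodule A B)) ∧
      Module.length A (B ⧸ c • (⊤ : Submodule A B)) ≤ 2 * Curv2.deltaInv A := by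
  intro B c
  classical
  set R₀ := LinearMap.range (Algebra.linearMap A B)
  set cB : Submodule A B := c • ⊤
  have hmem : ∀ a : A, a ∈ c ↔ ∀ b : B, a • b ∈ R₀ := fun a => by
    rw [Module.mem_annihilator]
    refine ⟨fun h b => ?_, fun h x => ?_⟩
    · rw [← Submodule.Quotient.mk_eq_zero R₀, Submodule.Quotient.mk_smul]; exact h _
    · obtain ⟨b, rfl⟩ := Submodule.Quotient.mk_surjective _ x
      rw [← Submodule.Quotient.mk_smul, Submodule.Quotient.mk_eq_zero]; exact h b
  have hcR : cB ≤ R₀ := Submodule.smul_le.2 fun a ha b _ => (hmem a).1 ha b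
  have hinj : Function.Injective (algebraMap A B) := fun a b h =>
    IsFractionRing.injective A (FractionRing A) (congrArg Subtype.val h)
  -- the A-part
  let ι : (A ⧸ c) →ₗ[A] (B ⧸ cB) := Submodule.mapQ c cB (Algebra.linearMap A B) fun a ha => by
    have h : algebraMap A B a = a • (1 : B) := Algebra.algebraMap_eq_smul_one a
    show algebraMap A B a ∈ cB
    rw [h]; exact Submodule.smul_mem_smul ha trivial
  have hι : Function.Injective ι := (injective_iff_map_eq_zero ι).2 fun x hx => by
    obtain ⟨a, rfl⟩ := Submodule.Quotient.mk_surjective _ x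
    rw [Submodule.mapQ_apply, Submodule.Quotient.mk_eq_zero] at hx
    rw [Submodule.Quotient.mk_eq_zero, hmem]
    intro b
    have h2 : algebraMap A B a * b ∈ cB := by
      refine Submodule.smul_induction_on hx (fun r hr n _ => ?_) fun p q hp hq => by rw [add_mul]; exact add_mem hp hq
      rw [smul_mul_assoc]; exact Submodule.smul_mem_smul hr trivial
    rw [Algebra.smul_def]; exact hcR h2
  have hex : Function.Exact ι (Submodule.factor hcR) := fun x => by
    obtain ⟨b, rfl⟩ := Submodule.Quotient.mk_surjective _ x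
    erw [Submodule.factor_mk]
    rw [Submodule.mkQ_apply, Submodule.Quotient.mk_eq_zero]
    constructor
    · rintro ⟨a, rfl⟩
      exact ⟨Submodule.Quotient.mk a, rfl⟩
    · rintro ⟨y, hy⟩
      obtain ⟨a, rfl⟩ := Submodule.Quotient.mk_surjective _ y
      rw [Submodule.mapQ_apply, Submodule.Quotient.eq] at hy
      have := sub_mem (show Algebra.linearMap A B a ∈ R₀ from ⟨a, rfl⟩) (hcR hy)
      rwa [sub_sub_cancel] at this
  have hn : Module.length A (B ⧸ cB) = Module.length A (A ⧸ c) + Curv2.deltaInv A :=
    Module.length_eq_add_of_exact ι (Submodule.factor hcR) hι (Submodule.factor_surjective hcR) hex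
  have hctop : c ≠ ⊤ := fun h => hsing <| by
    have hs : Function.Surjective (algebraMap A B) := fun b => by
      obtain ⟨a, ha⟩ := (hmem 1).1 (h ▸ Submodule.mem_top) b
      exact ⟨a, by rw [one_smul] at ha; exact ha⟩
    refine (isIntegrallyClosed_iff (FractionRing A)).2 fun {x} hx => ?_
    obtain ⟨a, ha⟩ := hs ⟨x, hx⟩
    exact ⟨a, congrArg Subtype.val ha⟩
  haveI : Nontrivial (A ⧸ c) := Submodule.Quotient.nontrivial_iff.2 hctop
  -- `B` is a principal ideal domain
  haveI : IsNoetherianRing B := isNoetherianRing_iff.2 (isNoetherian_of_tower A inferInstance)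
  haveI : IsIntegrallyClosed B := integralClosure.isIntegrallyClosedOfFiniteExtension (FractionRing A) (L := FractionRing A)
  haveI : Ring.DimensionLEOne B := Ring.DimensionLEOne.of_isIntegral A B
  haveI : IsDedekindDomain B := { }
  haveI : FaithfulSMul A B := (faithfulSMul_iff_algebraMap_injective A B).2 hinj
  have hm0 : IsLocalRing.maximalIdeal A ≠ ⊥ := fun e => hA (IsLocalRing.isField_iff_maximalIdeal_eq.2 e)
  have hfinM : {M : Ideal B | M.IsMaximal}.Finite := by
    refine (IsDedekindDomain.primesOver_finite (IsLocalRing.maximalIdeal A) B).subset fun M hM => ?_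
    haveI : M.IsMaximal := hM
    exact ⟨hM.isPrime, ⟨(IsLocalRing.eq_maximalIdeal (Ideal.isMaximal_comap_of_isIntegral_of_isMaximal M)).symm⟩⟩
  haveI : IsPrincipalIdealRing B := IsPrincipalIdealRing.of_finite_maximals hfinM
  -- the conductor ideal of `B`
  set I : Ideal B := c.map (algebraMap A B)
  have hIcB : ∀ x : B, x ∈ I ↔ x ∈ cB := fun x => by
    rw [show cB = Submodule.restrictScalars A I from Ideal.smul_top_eq_map c, Submodule.restrictScalars_mem]
  obtain ⟨γ, hγ⟩ : ∃ γ, I = Ideal.span {γ} := ⟨_, (Ideal.span_singleton_generator I).symm⟩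
  have hγ0 : γ ≠ 0 := by
    intro e
    rw [e, Set.singleton_zero, Ideal.span_zero] at hγ
    have hc0 : c = ⊥ := by
      rw [← le_bot_iff]
      intro a ha
      have : algebraMap A B a ∈ I := Ideal.mem_map_of_mem _ ha
      rw [hγ, Ideal.mem_bot] at this
      exact hinj (this.trans (map_zero _).symm)
    have hlt : Module.length A A < ⊤ := by
      refine lt_of_le_of_lt (le_of_eq (Submodule.quotEquivOfEqBot c hc0).symm.length_eq) ?_
      have hle : Module.length A (A ⧸ c) ≤ Module.length A (B ⧸ R₀) ⊔ Module.length A (A ⧸ c) := le_sup_right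
      by_contra hcon
      -- an injection of `A` into a power of `B/A`
      obtain ⟨T, hT⟩ := (Module.Finite.fg_top : (⊤ : Submodule A (B ⧸ R₀)).FG)
      let f : A →ₗ[A] (T → B ⧸ R₀) := LinearMap.pi fun t => LinearMap.toSpanSingleton A _ t.1
      have hf : Function.Injective f := (injective_iff_map_eq_zero f).2 fun a ha => by
        have : a ∈ c := Module.mem_annihilator.2 fun x => by
          have hx : x ∈ Submodule.span A (T : Set (B ⧸ R₀)) := hT ▸ Submodule.mem_top
          induction hx using Submodule.span_induction with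
          | mem y hy => exact congrFun ha ⟨y, hy⟩
          | zero => exact smul_zero _
          | add p q _ _ hp hq => rw [smul_add, hp, hq, add_zero]
          | smul r p _ hp => rw [smul_comm, hp, smul_zero]
        rw [hc0] at this; exact this
      have h1 := Module.length_le_of_injective f hf
      rw [Module.length_pi_of_fintype] at h1
      have h2 : Module.length A A < ⊤ := h1.trans_lt ((WithTop.sum_lt_top).2 fun _ _ => hδ)
      rw [(Submodule.quotEquivOfEqBot c hc0).length_eq] at hcon
      exact hcon h2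
    haveI : IsArtinian A A := (isFiniteLength_iff_isNoetherian_isArtinian.1
      (Module.length_ne_top_iff.1 hlt.ne)).2
    exact hA (IsArtinianRing.isField_of_isDomain A)
  -- dimensions
  have hdB : Module.length k (B ⧸ R₀) = Curv2.deltaInv A := length_eq k hres _
  haveI : Module.Finite k (B ⧸ R₀) := by
    have : IsFiniteLength k (B ⧸ R₀) := Module.length_ne_top_iff.1 (hdB ▸ hδ.ne)
    haveI := (isFiniteLength_iff_isNoetherian_isArtinian.1 this).1
    infer_instance
  -- the socle elements
  have hres' : ∀ M : Ideal B, M.IsMaximal → ∀ b : B, ∃ a : k, b - algebraMap A B (algebraMap k A a) ∈ M := by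
    intro M hM b
    letI := Ideal.Quotient.field M
    have hMm : IsLocalRing.maximalIdeal A = M.comap (algebraMap A B) :=
      (IsLocalRing.eq_maximalIdeal (Ideal.isMaximal_comap_of_isIntegral_of_isMaximal M)).symm
    let g : IsLocalRing.ResidueField A →+* B ⧸ M :=
      Ideal.Quotient.lift _ ((Ideal.Quotient.mk M).comp (algebraMap A B)) fun a ha => by
        rw [RingHom.comp_apply, Ideal.Quotient.eq_zero_iff_mem]
        exact hMm.le ha
    letI : Algebra k (B ⧸ M) := (g.comp (algebraMap k (IsLocalRing.ResidueField A))).toAlgebra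
    haveI : Algebra.IsIntegral k (B ⧸ M) := ⟨fun z => by
      obtain ⟨b', rfl⟩ := Ideal.Quotient.mk_surjective z
      obtain ⟨p, hp, hpb⟩ := (Algebra.IsIntegral.isIntegral (R := A) b')
      have hsurj : ∀ a : A, ∃ x : k, IsLocalRing.residue A a = algebraMap k _ x := fun a => by
        obtain ⟨x, hx⟩ := hres (IsLocalRing.residue A a); exact ⟨x, hx.symm⟩
      obtain ⟨q, hq⟩ := Polynomial.map_surjective (algebraMap k (IsLocalRing.ResidueField A)) hres (p.map (IsLocalRing.residue A))
      have hqm : q.Monic := by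
        have := hp.map (IsLocalRing.residue A)
        rw [← hq] at this
        exact Polynomial.monic_of_injective (algebraMap k _).injective this
      refine ⟨q, hqm, ?_⟩
      rw [show (algebraMap k (B ⧸ M)) = g.comp (algebraMap k (IsLocalRing.ResidueField A)) from rfl,
        ← Polynomial.eval₂_map, hq, Polynomial.eval₂_map,
        show g.comp (IsLocalRing.residue A) = (Ideal.Quotient.mk M).comp (algebraMap A B) from RingHom.ext fun _ => rfl,
        ← Polynomial.hom_eval₂, hpb, map_zero]⟩
    obtain ⟨a, ha⟩ := (IsAlgClosed.algebraMap_bijective_of_isIntegral (k := k) (K := B ⧸ M)).2 (Ideal.Quotient.mk M b)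
    exact ⟨a, Ideal.Quotient.eq.1 ha.symm⟩
  have hsoc : ∀ M ∈ hfinM.toFinset, ∃ π s : B, M = Ideal.span {π} ∧ (π ∣ γ → γ = π * s ∧ s ∉ R₀) := by
    intro M hM
    rw [Set.Finite.mem_toFinset] at hM
    obtain ⟨π, hπ⟩ : ∃ π, M = Ideal.span {π} := ⟨_, (Ideal.span_singleton_generator M).symm⟩
    by_cases hd : π ∣ γ
    · obtain ⟨s, hs⟩ := hd
      refine ⟨π, s, hπ, fun _ => ⟨hs, fun hsR => ?_⟩⟩
      obtain ⟨a, ha⟩ := hsR
      have ha' : s = algebraMap A B a := ha.symm
      have hac : a ∈ c := (hmem a).2 fun b => by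
        obtain ⟨x, hx⟩ := hres' M hM b
        rw [hπ, Ideal.mem_span_singleton] at hx
        obtain ⟨b', hb'⟩ := hx
        have h1 : γ * b' ∈ cB := (hIcB _).1 (by rw [hγ]; exact Ideal.mul_mem_right _ _ (Ideal.mem_span_singleton_self γ))
        rw [Algebra.smul_def, ← ha', show s * b = s * algebraMap A B (algebraMap k A x) + γ * b' by
          rw [hs, mul_assoc, mul_left_comm, ← hb']; ring]
        refine add_mem ⟨a * algebraMap k A x, ?_⟩ (hcR h1)
        rw [Algebra.linearMap_apply, map_mul, ← ha']
      have hsI : s ∈ I := ha' ▸ Ideal.mem_map_of_mem _ hac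
      rw [hγ, Ideal.mem_span_singleton] at hsI
      obtain ⟨w, hw⟩ := hsI
      have hunit : π * w = 1 := mul_left_cancel₀ hγ0 (by
        rw [mul_one]; conv_rhs => rw [hs, hw]
        ring)
      exact hM.ne_top (hπ ▸ Ideal.eq_top_of_isUnit_mem _ (Ideal.mem_span_singleton_self π) (.of_mul_eq_one w hunit))
    · exact ⟨π, 0, hπ, fun h => absurd h hd⟩
  choose! π s hπ hs using hsoc
  obtain ⟨φ, hφ⟩ := exists_dual_ne (k := k)
    ((hfinM.toFinset.filter fun M => π M ∣ γ).image fun M => (R₀.mkQ (s M))) (fun v hv => by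
      obtain ⟨M, hM, rfl⟩ := Finset.mem_image.1 hv
      rw [Finset.mem_filter] at hM
      exact fun e => (hs M hM.1 hM.2).2 ((Submodule.Quotient.mk_eq_zero R₀).1 e))
  let ψ : B →ₗ[k] k := φ.comp (R₀.mkQ.restrictScalars k)
  have hψR : ∀ b ∈ R₀, ψ b = 0 := fun b hb => by
    show φ (R₀.mkQ b) = 0
    rw [Submodule.mkQ_apply, (Submodule.Quotient.mk_eq_zero R₀).2 hb, map_zero]
  let K : Ideal B :=
    { carrier := {b | ∀ x, ψ (b * x) = 0}
      add_mem' := fun {p q} hp hq x => by rw [add_mul, map_add, hp, hq, add_zero]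
      zero_mem' := fun x => by rw [zero_mul, map_zero]
      smul_mem' := fun r b hb x => by rw [smul_eq_mul, mul_comm r b, mul_assoc]; exact hb _ }
  have hKI : K ≤ I := by
    obtain ⟨κ, hκ⟩ : ∃ κ, K = Ideal.span {κ} := ⟨_, (Ideal.span_singleton_generator K).symm⟩
    have hIK : I ≤ K := fun b hb x => hψR _ (hcR ((hIcB _).1 (Ideal.mul_mem_right _ _ hb)))
    rw [hκ, hγ, Ideal.span_singleton_le_span_singleton] at hIK
    obtain ⟨u, hu⟩ := hIK
    by_cases hu1 : IsUnit u
    · rw [hκ, hγ, hu, Ideal.span_singleton_mul_right_unit hu1]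
    exfalso
    obtain ⟨M, hM, huM⟩ := Ideal.exists_le_maximal (Ideal.span {u}) (by rwa [ne_eq, Ideal.span_singleton_eq_top])
    have hMf := hfinM.mem_toFinset.2 hM
    have hdu : π M ∣ u := by
      rw [← Ideal.mem_span_singleton, ← hπ M hMf]
      exact huM (Ideal.mem_span_singleton_self u)
    obtain ⟨u', hu'⟩ := hdu
    have hdγ : π M ∣ γ := ⟨κ * u', by rw [hu, hu']; ring⟩
    obtain ⟨hsγ, -⟩ := hs M hMf hdγ
    have hπ0 : π M ≠ 0 := fun e => hγ0 (by rw [hsγ, e, zero_mul])
    have hsκ : s M = κ * u' := mul_left_cancel₀ hπ0 (by rw [← hsγ, hu, hu']; ring)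
    have hκK : κ ∈ K := hκ ▸ Ideal.mem_span_singleton_self κ
    exact hφ _ (Finset.mem_image.2 ⟨M, Finset.mem_filter.2 ⟨hMf, hdγ⟩, rfl⟩)
      (by have h := hκK u'; rw [← hsκ] at h; exact h)
  -- the pairing
  have hker : ∀ a : A, R₀.restrictScalars k ≤ LinearMap.ker (ψ.comp (LinearMap.mulLeft k (algebraMap A B a))) := by
    rintro a _ ⟨x, rfl⟩
    refine LinearMap.mem_ker.2 (hψR _ ⟨a * x, ?_⟩)
    rw [Algebra.linearMap_apply, map_mul]; rfl
  let P : A →ₗ[k] Module.Dual k (B ⧸ R₀.restrictScalars k) :=
    { toFun := fun a => (R₀.restrictScalars k).liftQ _ (hker a)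
      map_add' := fun a a' => by
        refine Submodule.linearMap_qext _ (LinearMap.ext fun b => ?_)
        show ψ (algebraMap A B (a + a') * b) = ψ (algebraMap A B a * b) + ψ (algebraMap A B a' * b)
        rw [map_add, add_mul, map_add]
      map_smul' := fun x a => by
        refine Submodule.linearMap_qext _ (LinearMap.ext fun b => ?_)
        show ψ (algebraMap A B (x • a) * b) = x • ψ (algebraMap A B a * b)
        rw [← map_smul, ← smul_mul_assoc]
        congr 2
        exact map_smul (IsScalarTower.toAlgHom k A B) x a }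
  have hP : LinearMap.ker P ≤ c.restrictScalars k := fun a ha => by
    have h1 : algebraMap A B a ∈ cB := (hIcB _).1 (hKI fun x => by
      have := congrArg (fun f : Module.Dual k (B ⧸ R₀.restrictScalars k) => f (Submodule.Quotient.mk x)) (LinearMap.mem_ker.1 ha)
      exact this)
    exact (Submodule.Quotient.mk_eq_zero c).1 (hι (by
      rw [map_zero, Submodule.mapQ_apply, Submodule.Quotient.mk_eq_zero]; exact h1))
  have hm : Module.length A (A ⧸ c) ≤ Curv2.deltaInv A := by
    rw [← length_eq k hres (A ⧸ c), ← hdB]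
    calc Module.length k (A ⧸ c) ≤ Module.length k (A ⧸ LinearMap.ker P) :=
          Module.length_le_of_surjective (Submodule.mapQ (LinearMap.ker P) (c.restrictScalars k) LinearMap.id hP) fun x => by
            obtain ⟨a, rfl⟩ := Submodule.Quotient.mk_surjective _ x
            exact ⟨Submodule.Quotient.mk a, rfl⟩
      _ ≤ Module.length k (Module.Dual k (B ⧸ R₀.restrictScalars k)) :=
          Module.length_le_of_injective ((LinearMap.ker P).liftQ P le_rfl)
            (LinearMap.ker_eq_bot.1 (Submodule.ker_liftQ_eq_bot _ _ _ le_rfl))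
      _ = Module.length k (B ⧸ R₀) := by
          haveI : Module.Finite k (B ⧸ R₀.restrictScalars k) := ‹Module.Finite k (B ⧸ R₀)›
          rw [Module.length_eq_finrank, Subspace.dual_finrank_eq, ← Module.length_eq_finrank]
          rfl
  rw [hn, two_mul]
  refine ⟨?_, by gcongr⟩
  rw [add_comm (Module.length A (A ⧸ c))]
  gcongr
  exact Order.one_le_iff_pos.2 (Module.length_pos_iff.2 inferInstance)

end Groth.Agent.CondDelta92
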